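import Mathlib
import Groth.Agent.EtaleBase.Rigidity

/-! Unramified schemes over a field are disjoint unions of spectra of finite separable extensions. -/

set_option autoImplicit false

universe u

open CategoryTheory CategoryTheory.Limits AlgebraicGeometry TopologicalSpace

namespace Groth.UnrField

theorem unramified_of_coprod {k : Type u} [Field k] {X : Scheme.{u}} (f : X ⟶ Spec (CommRingCat.of k))
    {ι : Type u} (K : ι → Type u) [∀ i, Field (K i)] [∀ i, Algebra k (K i)]
    (hK : ∀ i, FiniteDimensional k (K i) ∧ Algebra.IsSeparable k (K i))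
    (e : X ≅ ∐ (fun i => Spec (CommRingCat.of (K i))))
    (he : e.hom ≫ Sigma.desc (fun i => Spec.map (CommRingCat.ofHom (algebraMap k (K i)))) = f) :
    FormallyUnramified f ∧ LocallyOfFiniteType f := by
  subst he
  constructor
  · rw [MorphismProperty.cancel_left_of_respectsIso (P := @FormallyUnramified)]
    rw [IsZariskiLocalAtSource.iff_of_openCover (P := @FormallyUnramified) (sigmaOpenCover _)]
    intro (i : ι)
    have := (hK i).2
    have := (hK i).1
    have : Algebra.FormallyUnramified k (K i) := Algebra.FormallyUnramified.of_isSeparable _ _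
    change FormallyUnramified (Sigma.ι _ i ≫ _)
    rw [Sigma.ι_desc, HasRingHomProperty.Spec_iff (P := @FormallyUnramified)]
    exact RingHom.formallyUnramified_algebraMap.mpr this
  · rw [MorphismProperty.cancel_left_of_respectsIso (P := @LocallyOfFiniteType)]
    rw [IsZariskiLocalAtSource.iff_of_openCover (P := @LocallyOfFiniteType) (sigmaOpenCover _)]
    intro (i : ι)
    have := (hK i).1
    change LocallyOfFiniteType (Sigma.ι _ i ≫ _)
    rw [Sigma.ι_desc, HasRingHomProperty.Spec_iff (P := @LocallyOfFiniteType)]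
    exact RingHom.finiteType_algebraMap.mpr inferInstance

theorem exists_coprod_of_unramified {k : Type u} [Field k] {X : Scheme.{u}}
    (f : X ⟶ Spec (CommRingCat.of k)) [FormallyUnramified f] [LocallyOfFiniteType f] :
    ∃ (ι : Type u) (K : ι → Type u) (_ : ∀ i, Field (K i)) (_ : ∀ i, Algebra k (K i)),
      (∀ i, FiniteDimensional k (K i) ∧ Algebra.IsSeparable k (K i)) ∧
      ∃ e : X ≅ ∐ (fun i => Spec (CommRingCat.of (K i))),
        e.hom ≫ Sigma.desc (fun i => Spec.map (CommRingCat.ofHom (algebraMap k (K i)))) = f := by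
  have : IsLocallyArtinian X := IsLocallyArtinian.of_locallyQuasiFinite f
  have : DiscreteTopology X := inferInstance
  let U : X → X.Opens := fun x => ⟨{x}, isOpen_discrete _⟩
  have hU : ∀ x, IsAffineOpen (U x) := fun x => IsAffineOpen.of_subsingleton Set.subsingleton_singleton
  let φ : ∀ x, CommRingCat.of k ⟶ Γ(X, U x) := fun x => Spec.preimage ((hU x).fromSpec ≫ f)
  letI : ∀ x, Algebra k Γ(X, U x) := fun x => (φ x).hom.toAlgebra
  have hφ : ∀ x, Spec.map (φ x) = (hU x).fromSpec ≫ f := fun x => Spec.map_preimage _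
  have hprop : ∀ x, IsField Γ(X, U x) ∧ Module.Finite k Γ(X, U x) ∧
      Algebra.FormallyUnramified k Γ(X, U x) := by
    intro x
    have h1 : FormallyUnramified (Spec.map (φ x)) := by
      rw [hφ]; exact MorphismProperty.comp_mem @FormallyUnramified _ _ inferInstance inferInstance
    have h2 : LocallyOfFiniteType (Spec.map (φ x)) := by rw [hφ]; infer_instance
    rw [HasRingHomProperty.Spec_iff (P := @FormallyUnramified)] at h1
    rw [HasRingHomProperty.Spec_iff (P := @LocallyOfFiniteType)] at h2
    have h1' : Algebra.FormallyUnramified k Γ(X, U x) := h1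
    have h2' : Algebra.FiniteType k Γ(X, U x) := h2
    have : Module.Finite k Γ(X, U x) := Algebra.FormallyUnramified.finite_of_free k _
    have : IsReduced Γ(X, U x) := Algebra.FormallyUnramified.isReduced_of_field k _
    have : IsArtinianRing Γ(X, U x) := IsArtinianRing.of_finite k _
    have hs : Subsingleton (PrimeSpectrum Γ(X, U x)) := by
      refine ⟨fun a b => (hU x).fromSpec.isOpenEmbedding.injective ?_⟩
      have hr : ∀ p, (hU x).fromSpec p = x := by
        intro p
        have h3 : (hU x).fromSpec p ∈ Set.range (hU x).fromSpec := ⟨p, rfl⟩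
        rw [(hU x).range_fromSpec] at h3
        exact h3
      rw [hr a, hr b]
    have hn : Nonempty (PrimeSpectrum Γ(X, U x)) := by
      obtain ⟨p, -⟩ : x ∈ Set.range (hU x).fromSpec := by rw [(hU x).range_fromSpec]; rfl
      exact ⟨p⟩
    have : Nontrivial Γ(X, U x) := PrimeSpectrum.nonempty_iff_nontrivial.mp hn
    have : IsLocalRing Γ(X, U x) := by
      obtain ⟨m, hm⟩ := Ideal.exists_maximal Γ(X, U x)
      refine IsLocalRing.of_unique_max_ideal ⟨m, hm, fun m' hm' => ?_⟩
      exact congrArg PrimeSpectrum.asIdeal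
        (Subsingleton.elim (⟨m', hm'.isPrime⟩ : PrimeSpectrum Γ(X, U x)) ⟨m, hm.isPrime⟩)
    exact ⟨IsArtinianRing.isField_of_isReduced_of_isLocalRing _, inferInstance, h1'⟩
  letI fld : ∀ x : X, Field Γ(X, U x) := fun x => (hprop x).1.toField
  refine ⟨X, fun x => Γ(X, U x), fld, inferInstance, fun x => ⟨(hprop x).2.1, ?_⟩, ?_⟩
  · have := (hprop x).2.2
    have := (hprop x).2.1
    exact Algebra.FormallyUnramified.isSeparable k _
  · have hc : ⨆ x, (hU x).fromSpec.opensRange = ⊤ := by
      simp_rw [IsAffineOpen.opensRange_fromSpec]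
      exact eq_top_iff.mpr fun z _ => Opens.mem_iSup.mpr ⟨z, rfl⟩
    have hd : Pairwise (Function.onFun Disjoint fun x => (hU x).fromSpec.opensRange) := by
      intro a b hab
      show Disjoint (hU a).fromSpec.opensRange (hU b).fromSpec.opensRange
      rw [IsAffineOpen.opensRange_fromSpec, IsAffineOpen.opensRange_fromSpec, disjoint_iff,
        Opens.ext_iff]
      simpa [U, Set.singleton_inter_eq_empty] using Ne.symm hab
    obtain ⟨hcol⟩ := nonempty_isColimit_cofanMk_of (fun x => (hU x).fromSpec) hc hd
    refine ⟨(IsColimit.coconePointUniqueUpToIso (coproductIsCoproduct _) hcol).symm, ?_⟩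
    refine Cofan.IsColimit.hom_ext hcol _ _ fun x => ?_
    rw [cofan_mk_inj]
    erw [reassoc_of% (IsColimit.comp_coconePointUniqueUpToIso_inv (coproductIsCoproduct _) hcol ⟨x⟩)]
    simp [← hφ, RingHom.algebraMap_toAlgebra]
    exact Sigma.ι_desc _ _

end Groth.UnrField
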